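import Cfsg.Agent.Lib.HN.Models
import Cfsg.Agent.Lib.HN.Engine

/-! Generated certificate. -/

set_option autoImplicit false
set_option maxRecDepth 100000
set_option maxHeartbeats 0
set_option Elab.async false

namespace Cfsg.Lib.HN.Kill

open Cfsg.Lib.CosetEnum (Tab)

open Cfsg.Lib.HN

/-- The deduction system. -/
noncomputable def sys : Sys where
  P := EnumB.tabP
  base := baseB
  S := [0, 1, 4, 5]
  tw := [([0], [4]), ([1, 0, 1, 0, 1, 1, 0, 5], [1, 0, 1, 0, 1, 1, 0, 5, 0, 0])]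
  T := [2]
  ρ := [[], [2], [2, 5, 2]]
  R := [[2, 5, 4, 5, 4, 5, 5, 5, 2, 1, 1, 1, 0, 1, 0, 1, 0, 5, 4, 5, 4, 5, 5, 5, 2, 1, 1, 1, 0, 1, 0, 1, 0, 5, 4, 5, 4, 5, 5, 5, 2, 1, 1, 1, 0, 1, 0, 1, 0], [2, 2]]

/-- The derivation. -/
def entries : List Entry :=
  [.base 0,
   .base 1,
   .define 2 0 [] 1,
   .conj 0 [0] [0] [4] [0],
   .conj 0 [2] [2, 0, 2, 0, 2, 2, 0, 3] [1, 4, 1, 0, 1, 1, 0, 5] [1, 0, 1, 0, 1, 1, 0, 5],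
   .define 2 1 [5] 2,
   .conj 1 [0, 0] [0, 0] [0, 0] [0, 0],
   .conj 1 [3, 1, 3, 3, 3, 1, 2, 2, 1, 0, 1, 3] [2, 2, 2, 0, 2, 0, 2, 2, 2, 0, 3, 3, 0, 3] [4, 1, 0, 5, 5, 0, 1, 0, 1, 1, 0, 5, 5, 0, 1, 0, 1, 1, 0, 1, 0, 1, 0, 1] [1, 4, 1, 0, 5, 5, 0, 1, 0, 1, 1, 0, 5, 5, 0, 1, 0, 1, 1, 0, 1, 0, 1, 0],
   .conj 1 [3, 3, 1, 1, 1, 0, 1, 2, 1, 1, 2, 1] [2, 0, 2, 2, 0, 2, 2, 2, 0, 2, 2, 0, 2, 0, 2, 2] [5, 5, 0, 1, 1, 0, 5, 5, 0, 1, 1, 0, 5, 5, 0, 1, 1, 0] [1, 0, 5, 5, 0, 1, 1, 0, 5, 5, 0, 1, 1, 0, 5, 5, 0, 1],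
   .conj 1 [2, 1, 3, 2, 2, 2, 3, 1, 3, 3, 1] [2, 0, 3, 3, 0, 2, 0] [5, 5, 0, 5, 0, 5, 0, 1, 0, 1, 0, 1, 1, 1, 0, 1, 0, 1, 1, 0, 1, 0, 1, 0, 1, 1, 0] [1, 1, 0, 1, 0, 1, 1, 1, 0, 1, 0, 1, 0, 5, 0, 5, 0, 5, 5, 0, 1, 1, 0, 1, 0, 1, 0],
   .gap 0 1 false ⟨0, [], []⟩ [.use 0 false [] [],
      .norm [] [],
      .app 0,
      .app 1,
      .app 0,
      .app 1,
      .app 0,
      .app 1,
      .app 1,
      .app 1] [.app 1,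
      .app 0,
      .app 1,
      .app 0,
      .app 1,
      .app 1,
      .app 1,
      .use 0 false [] [2, 2, 2, 0, 2, 0, 2],
      .norm [] [1, 1, 1, 0, 1, 0, 1],
      .app 5,
      .app 5,
      .app 5,
      .app 4,
      .app 5,
      .app 4,
      .app 5,
      .app 4,
      .app 1,
      .app 0,
      .app 1,
      .app 0,
      .app 1,
      .app 1,
      .app 1,
      .use 1 false [3, 0, 2, 0] [2, 2, 2, 1, 2, 0, 2, 0, 2, 0, 2],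
      .norm [1, 4, 5, 5, 0, 5, 0, 5, 0, 1, 0, 1, 0, 1, 1, 0, 5, 0] [1, 4, 1, 0, 5, 5, 0, 5, 0, 5, 0, 1, 0, 1, 0, 1, 1, 0, 1, 1, 0, 1, 0, 1, 0],
      .app 5,
      .app 5,
      .app 5,
      .app 4,
      .app 5,
      .app 4,
      .app 5,
      .app 4,
      .app 1,
      .app 0,
      .app 1,
      .app 0,
      .app 1,
      .app 1,
      .app 1] [4, 1, 0, 1, 1, 0, 1, 0, 5, 5, 0, 5, 5, 0, 1, 0, 1, 1, 0, 1, 0, 5, 0, 5, 0] [1, 4, 1, 0, 5, 5, 0, 5, 0, 5, 0, 1, 0, 1, 0, 1, 1, 0, 1, 1, 0, 1, 0, 1, 0],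
   .loop 0 41 false ⟨2, [4, 1, 0, 1, 1, 0, 1, 0, 5, 5, 0, 5, 5, 0, 1, 0, 1, 1, 0, 1, 0, 5, 0, 5, 0], []⟩ [.use 2 true [] [],
      .norm [1, 1, 1, 0, 1, 0, 1, 0] [0, 5, 0, 5, 0, 5, 5, 0, 5, 5, 0, 5, 0, 5, 0, 1, 0, 1, 0, 1, 1, 0, 5, 0, 5],
      .app 5,
      .app 5,
      .app 5,
      .app 4,
      .app 5,
      .app 4,
      .app 5,
      .app 0,
      .app 1,
      .app 0,
      .app 1,
      .app 0,
      .app 1,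
      .app 1,
      .app 1,
      .use 2 false [] [1],
      .norm [4, 1, 0, 1, 1, 0, 1, 0, 5, 5, 0, 5, 5, 0, 1, 0, 1, 1, 0, 1, 0, 5, 0, 5, 0] [5, 4, 1, 1, 0, 5, 0, 5, 5, 0, 1, 1, 0, 5, 0, 5, 5, 0, 1, 1, 0, 5, 5, 0],
      .app 5,
      .app 5,
      .app 5,
      .app 4,
      .app 5,
      .app 4,
      .app 5,
      .app 0,
      .app 1,
      .app 0,
      .app 1,
      .app 0,
      .app 1,
      .app 1,
      .app 1,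
      .use 1 true [2, 2, 2, 0, 1, 3, 1, 3, 3, 1, 3] [4, 2, 6, 2, 4],
      .norm [0, 1, 0, 1, 1, 1, 0, 5, 0, 1, 1, 0, 5, 5, 0, 1, 1, 0, 1, 0, 1, 1, 0] [5, 0, 5, 0, 1, 0, 1, 0, 1, 0, 5, 5, 0, 1, 1, 0, 5, 5, 0, 1, 1, 0, 1, 0],
      .app 5,
      .app 5,
      .app 5,
      .app 4,
      .app 5,
      .app 4,
      .app 5,
      .use 2 false [2] [0, 2, 2, 0, 2, 2, 2, 0, 2, 2, 0, 2, 2, 0, 2],
      .norm [0, 1, 0, 5, 5, 0, 5, 0, 5, 0, 1, 0, 1, 0, 5, 5, 0, 5, 0, 1, 1, 0, 5] [5, 4, 1, 0, 5, 0, 5, 0, 5, 5, 0, 1, 0, 1, 1, 0, 5, 5, 0, 1, 1],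
      .app 0,
      .app 1,
      .app 0,
      .app 1,
      .app 0,
      .app 1,
      .app 1,
      .app 1] [4, 5, 5, 0, 5, 0, 5, 0, 1, 1, 0, 1, 1, 0, 1, 0, 5, 0, 5, 0, 5, 0, 1, 1, 1] [5, 4, 1, 0, 5, 0, 5, 0, 5, 5, 0, 1, 0, 1, 1, 0, 5, 5, 0, 1, 1],
   .loop 0 1 false ⟨2, [4, 1, 1, 1, 0, 5, 0, 1, 1, 0, 1, 1, 0, 5, 0, 5, 0, 5, 5, 0, 1, 1, 0], []⟩ [.use 2 true [0, 2] [3, 8, 6, 2, 6],
      .norm [0, 1, 0, 1, 0, 1, 1, 0, 1, 1, 0, 1, 0, 1, 0] [5, 0, 1, 1, 0, 5, 5, 0, 1, 1, 0, 5, 0, 1, 1, 1, 0, 5, 5, 0, 1],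
      .app 0,
      .app 1,
      .app 0,
      .app 1,
      .app 0,
      .app 1,
      .app 1,
      .app 1,
      .use 1 false [3, 0, 2, 0] [0, 2, 0, 2, 2, 0, 2, 2, 0, 2, 2, 2, 0, 2, 2, 0],
      .norm [1, 4, 5, 5, 0, 5, 0, 5, 0, 1, 0, 1, 0, 1, 1, 0, 5, 0] [4, 5, 0, 1, 1, 0, 1, 1, 1, 0, 5, 0, 5, 0, 1, 0, 1, 0, 1, 0],
      .app 5,
      .app 5,
      .app 5,
      .app 4,
      .app 5,
      .app 4,
      .app 5,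
      .app 0,
      .app 1,
      .app 0,
      .app 1,
      .app 0,
      .app 1,
      .app 1,
      .app 1,
      .use 2 true [] [0],
      .norm [1, 1, 1, 0, 1, 0, 1, 0] [4, 1, 1, 0, 1, 1, 0, 5, 0, 5, 5, 0, 1, 1, 0, 5, 0, 1, 1, 0, 5, 0, 1, 1, 0],
      .app 5,
      .app 5,
      .app 5,
      .app 4,
      .app 5,
      .app 4,
      .app 5,
      .app 0,
      .app 1,
      .app 0,
      .app 1,
      .app 0,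
      .app 1,
      .app 1,
      .app 1,
      .use 2 false [] [1],
      .norm [4, 1, 0, 1, 1, 0, 1, 0, 5, 5, 0, 5, 5, 0, 1, 0, 1, 1, 0, 1, 0, 5, 0, 5, 0] [1, 1, 0, 5, 5, 0, 5, 5, 0, 5, 5, 0, 5, 0, 5, 0, 5, 0, 1, 1, 0, 1, 1],
      .app 5,
      .app 5,
      .app 5,
      .app 4,
      .app 5,
      .app 4,
      .app 5] [5, 4, 5, 0, 1, 0, 1, 0, 5, 5, 0, 5, 5, 0, 5, 0, 5, 0, 1, 0, 1, 0] [1, 1, 0, 5, 5, 0, 5, 5, 0, 5, 5, 0, 5, 0, 5, 0, 5, 0, 1, 1, 0, 1, 1]]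

/-- The product of earlier pairs. -/
def killIdx : List Nat := [2, 2, 8, 8, 2]

/-- The representative of the last pair. -/
def killJ : Nat := 2

/-- The last pair and the product of earlier pairs differ by the central element. -/
noncomputable def killOK : Bool :=
  match runEntries sys entries ([], []) with
  | some (_, Ps) => match (pairsAt Ps killJ).getLast? with
    | some p =>
      eqW sys p.s (wprod (((pairsAt Ps killJ).dropLast).map EPair.s) killIdx) &&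
        (eqW sys (p.σ ++ kWord) (wprod (((pairsAt Ps killJ).dropLast).map EPair.σ) killIdx) ||
         eqW sys (p.σ ++ winv kWord) (wprod (((pairsAt Ps killJ).dropLast).map EPair.σ) killIdx))
    | none => false
  | none => false

theorem kill_ok : killOK = true := by decide +kernel

end Cfsg.Lib.HN.Kill
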